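import Mathlib
import Cfsg.Agent.Lib.Helper50.CAI.Defs
import Cfsg.Agent.Lib.Helper35.SL2Mult
import Cfsg.Agent.Lib.Helper35.SchurLocal

/-!
# Project CAI (S2202), package [SPLIT]

An extension of `PSL₂(F)` (`F` finite of characteristic 2, `|F| ≥ 4`) by an abelian normal subgroup
`B` of odd order centralized by all involutions is the direct product `SL₂(F) × B`.
-/

set_option autoImplicit false

namespace Cfsg.Agent.Lib.Helper48.CAI

open Cfsg.Agent.Lib.Helper50.CAI

open scoped commutatorElement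

universe u

/-- a finite field with at least four elements has an element `a ≠ 0` with `a ^ 2 ≠ 1` -/
theorem exists_sq_ne_one {F : Type*} [Field F] [Fintype F] (h4 : 4 ≤ Fintype.card F) :
    ∃ a : F, a ≠ 0 ∧ a ^ 2 ≠ 1 := by
  classical
  obtain ⟨x, hx⟩ : IsCyclic Fˣ := by infer_instance
  refine ⟨x, Units.ne_zero x, fun h => ?_⟩
  have h1 : x ^ 2 = 1 := Units.ext (by simpa using h)
  have h2 : orderOf x ≤ 2 := orderOf_le_of_pow_eq_one zero_lt_two h1
  have h3 : orderOf x = Fintype.card F - 1 := by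
    rw [orderOf_eq_card_of_forall_mem_zpowers hx, Nat.card_eq_fintype_card, Fintype.card_units]
  omega

/-- if `φ` maps `K` onto everything, every element is a product of an element of `K` and an
element of the kernel -/
theorem exists_mul_of_map_eq_top {G H : Type*} [Group G] [Group H] (φ : G →* H)
    (K B : Subgroup G) (hker : ∀ g : G, φ g = 1 → g ∈ B) (hK : K.map φ = ⊤) (g : G) :
    ∃ k ∈ K, ∃ b ∈ B, g = k * b := by
  have h1 : φ g ∈ K.map φ := by rw [hK]; exact Subgroup.mem_top _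
  obtain ⟨k, hk, hkg⟩ := Subgroup.mem_map.mp h1
  refine ⟨k, hk, k⁻¹ * g, hker _ ?_, by group⟩
  rw [map_mul, map_inv, hkg, inv_mul_cancel]

/-- internal direct product with a central factor -/
theorem split_of_central {G : Type*} [Group G] (D B : Subgroup G)
    (hB : B ≤ Subgroup.center G) (hDB : ∀ g : G, ∃ d ∈ D, ∃ b ∈ B, g = d * b)
    (hinf : ∀ x ∈ D, x ∈ B → x = 1) : Nonempty (G ≃* ↥D × ↥B) := by
  let f : ↥D × ↥B →* G :=
    { toFun := fun x => (x.1 : G) * (x.2 : G)
      map_one' := by simp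
      map_mul' := by
        rintro ⟨d₁, b₁⟩ ⟨d₂, b₂⟩
        have hc : (b₁ : G) * (d₂ : G) = (d₂ : G) * (b₁ : G) :=
          ((Subgroup.mem_center_iff.mp (hB b₁.2)) (d₂ : G)).symm
        show ((d₁ * d₂ : ↥D) : G) * ((b₁ * b₂ : ↥B) : G) = (d₁ : G) * b₁ * ((d₂ : G) * b₂)
        rw [Subgroup.coe_mul, Subgroup.coe_mul]
        calc (d₁ : G) * d₂ * (b₁ * b₂) = d₁ * (d₂ * b₁) * b₂ := by group
          _ = d₁ * (b₁ * d₂) * b₂ := by rw [hc]
          _ = (d₁ : G) * b₁ * ((d₂ : G) * b₂) := by group }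
  have hf : ∀ x : ↥D × ↥B, f x = (x.1 : G) * (x.2 : G) := fun _ => rfl
  have hinj : Function.Injective f := by
    rw [injective_iff_map_eq_one]
    rintro ⟨d, b⟩ h
    rw [hf] at h
    have h1 : (d : G) = (b : G)⁻¹ := eq_inv_of_mul_eq_one_left h
    have h2 : (d : G) = 1 := hinf _ d.2 (by rw [h1]; exact B.inv_mem b.2)
    have h3 : (b : G) = 1 := by
      rw [h2] at h1
      exact inv_eq_one.mp h1.symm
    exact Prod.ext (Subtype.ext h2) (Subtype.ext h3)
  have hsurj : Function.Surjective f := by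
    intro g
    obtain ⟨d, hd, b, hb, rfl⟩ := hDB g
    exact ⟨(⟨d, hd⟩, ⟨b, hb⟩), rfl⟩
  exact ⟨(MulEquiv.ofBijective f ⟨hinj, hsurj⟩).symm⟩

/-- [SPLIT] -/
theorem pkgSplit : PkgSplit.{u} := by
  intro G _ _ B _ F _ _ hchar h4 hodd hBcomm hinv ⟨e⟩
  classical
  haveI : CharP F 2 := hchar
  have h2 : (2 : F) = 0 := by
    have := CharP.cast_eq_zero F 2
    exact_mod_cast this
  have hcen := Cfsg.Agent.Lib.Helper5.center_SL2_eq_bot_of_two_eq_zero h2
  let ePS : Matrix.ProjectiveSpecialLinearGroup (Fin 2) F ≃* Matrix.SpecialLinearGroup (Fin 2) F :=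
    (QuotientGroup.quotientMulEquivOfEq hcen).trans QuotientGroup.quotientBot
  -- the two maps
  let φ₀ : G →* Matrix.ProjectiveSpecialLinearGroup (Fin 2) F :=
    e.toMonoidHom.comp (QuotientGroup.mk' B)
  let φ : G →* Matrix.SpecialLinearGroup (Fin 2) F := ePS.toMonoidHom.comp φ₀
  have hφ₀surj : Function.Surjective φ₀ := by
    intro s
    obtain ⟨g, hg⟩ := QuotientGroup.mk'_surjective B (e.symm s)
    refine ⟨g, ?_⟩
    show e (QuotientGroup.mk' B g) = s
    rw [hg]; simp
  have hφsurj : Function.Surjective φ := by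
    intro s
    obtain ⟨g, hg⟩ := hφ₀surj (ePS.symm s)
    refine ⟨g, ?_⟩
    show ePS (φ₀ g) = s
    rw [hg]; simp
  have hφ₀ker : ∀ g : G, φ₀ g = 1 → g ∈ B := by
    intro g hg
    have h1 : e (QuotientGroup.mk' B g) = 1 := hg
    have h3 : (QuotientGroup.mk' B g) = 1 := by
      have := congrArg e.symm h1
      simpa using this
    exact (QuotientGroup.eq_one_iff g).mp h3
  have hφker : ∀ g : G, φ g = 1 → g ∈ B := by
    intro g hg
    have h1 : ePS (φ₀ g) = 1 := hg
    apply hφ₀ker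
    have := congrArg ePS.symm h1
    simpa using this
  have hφB : ∀ b ∈ B, φ b = 1 := by
    intro b hb
    show ePS (e (QuotientGroup.mk' B b)) = 1
    have : QuotientGroup.mk' B b = 1 := (QuotientGroup.eq_one_iff b).mpr hb
    rw [this]; simp
  -- cardinalities
  obtain ⟨q, hq⟩ : ∃ q, q = Fintype.card F := ⟨_, rfl⟩
  have hq4 : 4 ≤ q := by rw [hq]; exact h4
  have hcardSL : Nat.card (Matrix.SpecialLinearGroup (Fin 2) F) = q * (q ^ 2 - 1) := by
    rw [hq]; exact Cfsg.Agent.Lib.Helper5.card_SL2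
  have hqe : q % 2 = 0 := by
    rw [hq]; exact Cfsg.Agent.Lib.Helper41.card_mod_two_of_two_eq_zero h2
  have hqq : q ^ 2 - 1 = (q - 1) * (q + 1) := by
    obtain ⟨k, rfl⟩ : ∃ k, q = k + 1 := ⟨q - 1, by omega⟩
    have : (k + 1) ^ 2 = k * (k + 2) + 1 := by ring
    rw [this]; simp
  -- an involution outside `B`
  have h2G : 2 ∣ Nat.card G := by
    have h1 : Nat.card G = Nat.card (G ⧸ B) * Nat.card B :=
      Subgroup.card_eq_card_quotient_mul_card_subgroup B
    have h3 : Nat.card (G ⧸ B) = Nat.card (Matrix.SpecialLinearGroup (Fin 2) F) :=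
      Nat.card_congr (e.trans ePS).toEquiv
    rw [h1, h3, hcardSL]
    exact Dvd.dvd.mul_right (Dvd.dvd.mul_right (Nat.dvd_of_mod_eq_zero hqe) _) _
  obtain ⟨t0, ht0⟩ := exists_prime_orderOf_dvd_card' 2 h2G
  have ht0B : t0 ∉ B := by
    intro h
    have h1 : orderOf t0 ∣ Nat.card B := Subgroup.orderOf_dvd_natCard B h
    rw [ht0] at h1
    exact (Nat.not_even_iff_odd.mpr hodd) (even_iff_two_dvd.mpr h1)
  -- the normal closure of the involutions
  have hsimple : IsSimpleGroup (Matrix.ProjectiveSpecialLinearGroup (Fin 2) F) :=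
    Matrix.ProjectiveSpecialLinearGroup.rank_two_simple
      (by rw [Nat.card_eq_fintype_card]; exact h4)
  let K : Subgroup G := Subgroup.normalClosure {t : G | orderOf t = 2}
  have hKC : K ≤ Subgroup.centralizer (B : Set G) := by
    apply Subgroup.normalClosure_le_normal
    intro t ht
    rw [SetLike.mem_coe, Subgroup.mem_centralizer_iff]
    intro b hb
    exact (hinv t ht b hb).symm
  have hKmap : K.map φ₀ = ⊤ := by
    have hn : (K.map φ₀).Normal :=
      Subgroup.Normal.map Subgroup.normalClosure_normal φ₀ hφ₀surj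
    rcases hn.eq_bot_or_eq_top with h | h
    · exfalso
      apply ht0B
      apply hφ₀ker
      have h1 : φ₀ t0 ∈ K.map φ₀ :=
        Subgroup.mem_map_of_mem φ₀ (Subgroup.subset_normalClosure ht0)
      rw [h] at h1
      exact Subgroup.mem_bot.mp h1
    · exact h
  have hBcen : B ≤ Subgroup.center G := by
    intro b hb
    rw [Subgroup.mem_center_iff]
    intro g
    obtain ⟨k, hk, b', hb', rfl⟩ := exists_mul_of_map_eq_top φ₀ K B hφ₀ker hKmap g
    have h1 : b * k = k * b := (Subgroup.mem_centralizer_iff.mp (hKC hk)) b hb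
    have h2' : b' * b = b * b' := hBcomm b' hb' b hb
    calc k * b' * b = k * (b' * b) := by group
      _ = k * (b * b') := by rw [h2']
      _ = (k * b) * b' := by group
      _ = (b * k) * b' := by rw [h1]
      _ = b * (k * b') := by group
  -- the commutator subgroup
  let D : Subgroup G := commutator G
  have hDmap : D.map φ₀ = ⊤ := by
    have h1 : (commutator G).map φ₀ =
        commutator (Matrix.ProjectiveSpecialLinearGroup (Fin 2) F) :=
      Cfsg.Agent.Lib.Helper35.map_commutator_of_surjective φ₀ hφ₀surj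
    rw [show D = commutator G from rfl, h1]
    exact SL2Simple.PSL_commutator_eq_top (exists_sq_ne_one h4)
  have hDB : ∀ g : G, ∃ d ∈ D, ∃ b ∈ B, g = d * b :=
    exists_mul_of_map_eq_top φ₀ D B hφ₀ker hDmap
  have hDle : D ≤ (commutator ↥D).map D.subtype := by
    show commutator G ≤ _
    rw [commutator_def, Subgroup.commutator_le]
    intro g₁ _ g₂ _
    obtain ⟨d₁, hd₁, b₁, hb₁, rfl⟩ := hDB g₁
    obtain ⟨d₂, hd₂, b₂, hb₂, rfl⟩ := hDB g₂
    rw [Cfsg.Agent.Lib.Helper35.comm_mul_central_left (hBcen hb₁),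
      Cfsg.Agent.Lib.Helper35.comm_mul_central_right (hBcen hb₂)]
    refine ⟨⁅(⟨d₁, hd₁⟩ : ↥D), ⟨d₂, hd₂⟩⁆, ?_, rfl⟩
    rw [SetLike.mem_coe, commutator_def]
    exact Subgroup.commutator_mem_commutator (Subgroup.mem_top _) (Subgroup.mem_top _)
  have hDperf : ∀ x : ↥D, x ∈ commutator ↥D := by
    intro x
    obtain ⟨y, hy, hyx⟩ := Subgroup.mem_map.mp (hDle x.2)
    have : y = x := Subtype.ext hyx
    rw [← this]; exact hy
  -- the stem extension
  let τ : ↥D →* Matrix.SpecialLinearGroup (Fin 2) F := φ.comp D.subtype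
  have hτapp : ∀ x : ↥D, τ x = φ (x : G) := fun _ => rfl
  have hτsurj : Function.Surjective τ := by
    intro s
    obtain ⟨g, hg⟩ := hφsurj s
    obtain ⟨d, hd, b, hb, rfl⟩ := hDB g
    refine ⟨⟨d, hd⟩, ?_⟩
    rw [hτapp, ← hg, map_mul, hφB b hb, mul_one]
  have hτstem : Cfsg.IsStemExtension τ := by
    refine ⟨hτsurj, ?_, ?_⟩
    · intro z hz
      have hzB : (z : G) ∈ B := hφker _ (by rw [← hτapp]; exact hz)
      rw [Subgroup.mem_center_iff]
      intro y
      apply Subtype.ext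
      rw [Subgroup.coe_mul, Subgroup.coe_mul]
      exact (Subgroup.mem_center_iff.mp (hBcen hzB)) (y : G)
    · intro z _
      exact hDperf z
  have hker : τ.ker = ⊥ := by
    rw [eq_bot_iff]
    intro z hz
    rw [Subgroup.mem_bot]
    have hzB : (z : G) ∈ B := hφker _ (by rw [← hτapp]; exact hz)
    have hoz : Odd (orderOf z) := by
      have h1 : orderOf (z : G) ∣ Nat.card B := Subgroup.orderOf_dvd_natCard B hzB
      rw [Subgroup.orderOf_coe] at h1
      exact Odd.of_dvd_nat hodd h1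
    obtain ⟨n, -, hn⟩ := FiniteField.card F 2
    have hcop : Nat.Coprime (orderOf z) q := by
      rw [hq, hn]
      exact Nat.Coprime.pow_right _ (Nat.coprime_two_right.mpr hoz)
    -- the split torus
    obtain ⟨a₀, ha₀⟩ := IsCyclic.exists_generator (α := Fˣ)
    have hoa : orderOf a₀ = q - 1 := by
      rw [orderOf_eq_card_of_forall_mem_zpowers ha₀, Nat.card_eq_fintype_card,
        Fintype.card_units, hq]
    have hod : orderOf (Cfsg.Agent.Lib.Helper41.diagD a₀) = q - 1 := by
      rw [← hoa]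
      exact orderOf_injective Cfsg.Agent.Lib.Helper41.diagHom
        Cfsg.Agent.Lib.Helper41.diagHom_injective a₀
    have hT : z ^ (q * (q + 1)) = 1 :=
      Cfsg.Agent.Lib.Helper35.stem_pow_eq_one_of_orderOf τ hτstem hz
        (Cfsg.Agent.Lib.Helper41.diagD a₀) (q - 1) (q * (q + 1)) (by omega) hod
        (by rw [hcardSL, hqq]; ring)
    -- the non-split torus
    obtain ⟨W, hW⟩ := Cfsg.Agent.Lib.Helper41.exists_sl2_orderOf_card_add_one (F := F) 2
    have hW' : z ^ (q * (q - 1)) = 1 :=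
      Cfsg.Agent.Lib.Helper35.stem_pow_eq_one_of_orderOf τ hτstem hz W (q + 1) (q * (q - 1))
        (by omega) (by rw [hW, hq]) (by rw [hcardSL, hqq]; ring)
    have hn2 : orderOf z ∣ q + 1 :=
      hcop.dvd_of_dvd_mul_left (orderOf_dvd_of_pow_eq_one hT)
    have hn3 : orderOf z ∣ q - 1 :=
      hcop.dvd_of_dvd_mul_left (orderOf_dvd_of_pow_eq_one hW')
    have hn4 : orderOf z ∣ 2 := by
      have := Nat.dvd_sub hn2 hn3
      have e : q + 1 - (q - 1) = 2 := by omega
      rwa [e] at this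
    rcases (Nat.dvd_prime Nat.prime_two).mp hn4 with h | h
    · exact orderOf_eq_one_iff.mp h
    · exfalso
      rw [h] at hoz
      exact absurd hoz (by decide)
  have hτinj : Function.Injective τ := (MonoidHom.ker_eq_bot_iff τ).mp hker
  let eD : ↥D ≃* Matrix.SpecialLinearGroup (Fin 2) F := MulEquiv.ofBijective τ ⟨hτinj, hτsurj⟩
  have hinf : ∀ x ∈ D, x ∈ B → x = 1 := by
    intro x hx hxB
    have h1 : τ ⟨x, hx⟩ = 1 := by rw [hτapp]; exact hφB x hxB
    have h3 : (⟨x, hx⟩ : ↥D) = 1 := hτinj (by rw [h1, map_one])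
    exact congrArg Subtype.val h3
  obtain ⟨eG⟩ := split_of_central D B hBcen hDB hinf
  exact ⟨eG.trans (MulEquiv.prodCongr eD (MulEquiv.refl ↥B))⟩

end Cfsg.Agent.Lib.Helper48.CAI
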